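import Groth.Agent.Krr.H450.MapOps
import Groth.Agent.Krr.H482.PullFinal
import Groth.Prelude.Def_Omega2

/-!
# Adams–Riemann–Roch for regular closed immersions: assembly

* `pull_adams`, `pull_bott`: `f^K` commutes with `ψ^j` (`j ≥ 1`) and `θ^j` (models in any universes);
* `transport`: the Adams–Riemann–Roch formula for one pair of models implies it for all pairs of models
  (in any universes);
* `rr_of_deformation`: the formal part of the deformation to the normal bundle.
-/

set_option autoImplicit false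

open CategoryTheory CategoryTheory.Limits AlgebraicGeometry

universe v w v' w' u

namespace Groth.Agent.Krr.H450.Assembly

open KRR Groth.Agent.Krr.H482.LamAlg Groth.Agent.Krr.H482.PullLambda
  Groth.Agent.Krr.H482.PullFinal

section Pull

variable {X Y : Scheme.{u}} {f : X ⟶ Y}
  {KX : Type v} [CommRing KX] [LambdaRing.LambdaOps KX] {PX : LambdaRing.PosStructure KX}
  {φX : SGA6.Kvb X →+ KX}
  {KY : Type w} [CommRing KY] [LambdaRing.LambdaOps KY] {PY : LambdaRing.PosStructure KY}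
  {φY : SGA6.Kvb Y →+ KY} {q : KY →+ KX}

/-- `f^K` commutes with the Adams operations. -/
theorem pull_adams (hKX : IsModel X KX PX φX) (hKY : IsModel Y KY PY φY) (hq : IsPull f φY φX q)
    {j : ℕ} (hj : 1 ≤ j) (x : KY) : q (LambdaRing.adams PY j x) = LambdaRing.adams PX j (q x) :=
  MapOps.map_adams (q := pullRingHom hKX hKY hq) (commAt_pull hKX hKY hq x) hj

/-- `f^K` commutes with Bott's classes. -/
theorem pull_bott (hKX : IsModel X KX PX φX) (hKY : IsModel Y KY PY φY) (hq : IsPull f φY φX q)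
    (j : ℕ) (x : KY) : q (bott PY j x) = bott PX j (q x) :=
  MapOps.map_bott (q := pullRingHom hKX hKY hq) (commAt_pull hKX hKY hq x) (pull_aug hKX hKY hq x) j

/-- `f^K` commutes with `λ_{-1}`. -/
theorem pull_lamAlt (hKX : IsModel X KX PX φX) (hKY : IsModel Y KY PY φY) (hq : IsPull f φY φX q)
    (x : KY) : q (lamAlt PY x) = lamAlt PX (q x) :=
  MapOps.map_lamAlt (q := pullRingHom hKX hKY hq) (commAt_pull hKX hKY hq x)
    (pull_aug hKX hKY hq x)

end Pull

section Transport

variable {X Y : Scheme.{u}}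
  {KX : Type v} [CommRing KX] [LambdaRing.LambdaOps KX] {PX : LambdaRing.PosStructure KX}
  {φX : SGA6.Kvb X →+ KX}
  {KX' : Type v'} [CommRing KX'] [LambdaRing.LambdaOps KX'] {PX' : LambdaRing.PosStructure KX'}
  {φX' : SGA6.Kvb X →+ KX'}
  {KY : Type w} [CommRing KY] [LambdaRing.LambdaOps KY] {PY : LambdaRing.PosStructure KY}
  {φY : SGA6.Kvb Y →+ KY}
  {KY' : Type w'} [CommRing KY'] [LambdaRing.LambdaOps KY'] {PY' : LambdaRing.PosStructure KY'}
  {φY' : SGA6.Kvb Y →+ KY'}

/-- Comparison of two models of the same scheme. -/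
theorem exists_comparison (hKX : IsModel X KX PX φX) (hKX' : IsModel X KX' PX' φX') :
    ∃ α : KX ≃+ KX', (∀ z, α (φX z) = φX' z) ∧ IsPull (𝟙 X) φX φX' α.toAddMonoidHom := by
  let e : SGA6.Kvb X ≃+ KX := AddEquiv.ofBijective φX hKX.bijective
  let e' : SGA6.Kvb X ≃+ KX' := AddEquiv.ofBijective φX' hKX'.bijective
  have h : ∀ z, (e.symm.trans e') (φX z) = φX' z := fun z => by
    have h1 : e.symm (φX z) = z := e.symm_apply_apply z
    change e' (e.symm (φX z)) = _
    rw [h1]
    rfl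
  exact ⟨e.symm.trans e', h, isPull_id fun E _ => h _⟩

/-- The Adams–Riemann–Roch formula for one pair of models implies it for every pair. -/
theorem transport (f : X ⟶ Y) (c : SGA6.Kvb X) {j : ℕ} (hj : 1 ≤ j)
    (hKX : IsModel X KX PX φX) (hKY : IsModel Y KY PY φY)
    (hKX' : IsModel X KX' PX' φX') (hKY' : IsModel Y KY' PY' φY')
    (H : ∀ h' : KX' →+ KY', IsPushCl f φX' φY' h' → ∀ x,
      LambdaRing.adams PY' j (h' x) = h' (bott PX' j (φX' c) * LambdaRing.adams PX' j x))
    (h : KX →+ KY) (hh : IsPushCl f φX φY h) (x : KX) :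
    LambdaRing.adams PY j (h x) = h (bott PX j (φX c) * LambdaRing.adams PX j x) := by
  obtain ⟨α, hα, hα'⟩ := exists_comparison hKX hKX'
  obtain ⟨β, hβ, hβ'⟩ := exists_comparison hKY hKY'
  let h' : KX' →+ KY' := (β.toAddMonoidHom.comp h).comp α.symm.toAddMonoidHom
  have hh'α : ∀ z, h' (α z) = β (h z) := fun z => by
    change β (h (α.symm (α z))) = _
    rw [α.symm_apply_apply]
  have hh' : IsPushCl f φX' φY' h' := by
    intro F hF n L π hL
    rw [← hα, hh'α, hh F hF n L π hL, map_sum]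
    refine Finset.sum_congr rfl fun k _ => ?_
    rw [map_zsmul, hβ]
  have h1 := H h' hh' (α x)
  apply β.injective
  have h2 : β (LambdaRing.adams PY j (h x)) = LambdaRing.adams PY' j (β (h x)) :=
    pull_adams hKY' hKY hβ' hj (h x)
  have h3 : α (bott PX j (φX c)) = bott PX' j (φX' c) := by
    rw [← hα]
    exact pull_bott hKX' hKX hα' j (φX c)
  have h4 : α (LambdaRing.adams PX j x) = LambdaRing.adams PX' j (α x) :=
    pull_adams hKX' hKX hα' hj x
  have h5 : α (bott PX j (φX c) * LambdaRing.adams PX j x) =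
      α (bott PX j (φX c)) * α (LambdaRing.adams PX j x) :=
    pull_mul hKX' hKX hα' _ _
  rw [h2, ← hh'α, h1, ← h3, ← h4, ← h5, hh'α]

end Transport

section Defo

variable {X Y P M E : Scheme.{u}}
  {KX : Type v} [CommRing KX] [LambdaRing.LambdaOps KX] {PX : LambdaRing.PosStructure KX}
  {φX : SGA6.Kvb X →+ KX}
  {KY : Type v} [CommRing KY] [LambdaRing.LambdaOps KY] {PY : LambdaRing.PosStructure KY}
  {φY : SGA6.Kvb Y →+ KY}
  {KP : Type v} [CommRing KP] [LambdaRing.LambdaOps KP] {PP : LambdaRing.PosStructure KP}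
  {φP : SGA6.Kvb P →+ KP}
  {KM : Type v} [CommRing KM] [LambdaRing.LambdaOps KM] {PM : LambdaRing.PosStructure KM}
  {φM : SGA6.Kvb M →+ KM}
  {KE : Type v} [CommRing KE] [LambdaRing.LambdaOps KE] {PE : LambdaRing.PosStructure KE}
  {φE : SGA6.Kvb E →+ KE}


/-- The formal part of the proof of the Adams–Riemann–Roch formula by deformation to the normal bundle. -/
theorem rr_of_deformation
    (hKX : IsModel X KX PX φX) (hKY : IsModel Y KY PY φY) (hKP : IsModel P KP PP φP)
    (hKM : IsModel M KM PM φM) (hKE : IsModel E KE PE φE)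
    {g0 : Y ⟶ M} {iE : E ⟶ M} {z0 zI : X ⟶ P} {r : P ⟶ X} (h0 : z0 ≫ r = 𝟙 X) (hI : zI ≫ r = 𝟙 X)
    (gf : KX →+ KY) (gF : KP →+ KM) (gs : KX →+ KE) (gg0 : KY →+ KM)
    (qg0 : KM →+ KY) (hqg0 : IsPull g0 φM φY qg0) (qE : KM →+ KE) (hqE : IsPull iE φM φE qE)
    (q0 : KP →+ KX) (hq0 : IsPull z0 φP φX q0) (qI : KP →+ KX) (hqI : IsPull zI φP φX qI)
    (sq0 : ∀ p, qg0 (gF p) = gf (q0 p)) (sqE : ∀ p, qE (gF p) = gs (qI p))
    {j : ℕ} (hj : 1 ≤ j) (cP : KP) (c : KX) (hc0 : q0 cP = c) (hcI : qI cP = c)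
    (hE1 : ∀ x, LambdaRing.adams PE j (gs x) = gs (bott PX j c * LambdaRing.adams PX j x))
    (a b : KM) (ha : ∀ z, qE z = 0 → z * (1 - a) = 0)
    (hb : ∀ p, LambdaRing.adams PM j (gF p) * (1 - b) = 0) (hb' : ∀ p, gF p * (1 - b) = 0)
    (hab : ∀ z, gg0 (qg0 z) = z * (1 - a * b)) (hinj : Function.Injective gg0) (x : KX) :
    LambdaRing.adams PY j (gf x) = gf (bott PX j c * LambdaRing.adams PX j x) := by
  obtain ⟨qr, hqr⟩ := exists_isPull (KY := KX) (KX := KP) r hKX.bijective φP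
  have e0 : ∀ y, q0 (qr y) = y := by
    have h1 : IsPull (𝟙 X) φX φX (q0.comp qr) := isPull_congr h0 (isPull_comp hq0 hqr)
    have h2 : q0.comp qr = AddMonoidHom.id KX := isPull_unique hKX h1 (isPull_id fun E _ => rfl)
    exact fun y => DFunLike.congr_fun h2 y
  have eI : ∀ y, qI (qr y) = y := by
    have h1 : IsPull (𝟙 X) φX φX (qI.comp qr) := isPull_congr hI (isPull_comp hqI hqr)
    have h2 : qI.comp qr = AddMonoidHom.id KX := isPull_unique hKX h1 (isPull_id fun E _ => rfl)
    exact fun y => DFunLike.congr_fun h2 y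
  set w : KP := bott PP j cP * LambdaRing.adams PP j (qr x) with hw
  have w0 : q0 w = bott PX j c * LambdaRing.adams PX j x := by
    rw [hw, pull_mul hKX hKP hq0, pull_bott hKX hKP hq0, pull_adams hKX hKP hq0 hj, hc0, e0]
  have wI : qI w = bott PX j c * LambdaRing.adams PX j x := by
    rw [hw, pull_mul hKX hKP hqI, pull_bott hKX hKP hqI, pull_adams hKX hKP hqI hj, hcI, eI]
  set z : KM := LambdaRing.adams PM j (gF (qr x)) - gF w with hz
  have hzE : qE z = 0 := by
    rw [hz, map_sub, pull_adams hKE hKM hqE hj, sqE, sqE, wI, eI, hE1, sub_self]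
  have hz0 : qg0 z = LambdaRing.adams PY j (gf x) - gf (bott PX j c * LambdaRing.adams PX j x) := by
    rw [hz, map_sub, pull_adams hKY hKM hqg0 hj, sq0, sq0, w0, e0]
  have hzb : z * (1 - b) = 0 := by
    rw [hz, sub_mul, hb, hb', sub_zero]
  have hzab : z * (1 - a * b) = 0 := by
    have h1 : z * (1 - a * b) = z * (1 - a) + a * (z * (1 - b)) := by ring
    rw [h1, ha z hzE, hzb, mul_zero, add_zero]
  have h1 : gg0 (qg0 z) = 0 := (hab z).trans hzab
  have h2 : qg0 z = 0 := hinj (h1.trans (map_zero gg0).symm)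
  rw [hz0] at h2
  exact sub_eq_zero.mp h2

end Defo

end Groth.Agent.Krr.H450.Assembly
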