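import Groth.Agent.Grpsch.ConormalIso
import Groth.Agent.Dcoh.StalkRestrict
import Groth.Agent.Dcoh.FreeSec
import Groth.Prelude.Def_Mor2
import Groth.Prelude.Def_FlatMod2

/-!
# Base change of the conormal module, equal ranks

An epimorphism between finite locally free modules of the same rank is an isomorphism; hence for a cartesian square of
closed immersions whose conormal modules are finite locally free of the same rank, the canonical map
`ψ^* C_F ⟶ C_f` is an isomorphism.
-/

set_option autoImplicit false
universe u
open CategoryTheory CategoryTheory.Limits AlgebraicGeometry TopologicalSpace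

namespace Groth.Agent.Krr.H450.ConormalIso

open Groth.Agent.Smoothlim.ConormalRes Groth.Agent.CycB.StalkExact
open Groth.Agent.Fdesc.PullbackStalk Groth.Agent.PerfC.FlatExact
open Groth.Agent.Grpsch.ConormalIso
open Groth.Agent.Dcoh.StalkRestrict Groth.Agent.Dcoh.FreeSec

/-- Transport of a basis along a semilinear equivalence. -/
noncomputable def basisOfSemilinear {R S : Type*} [CommRing R] [CommRing S] (σ : R ≃+* S)
    {M N : Type*} [AddCommGroup M] [AddCommGroup N] [Module R M] [Module S N] (e : M ≃+ N)
    (he : ∀ (r : R) (m : M), e (r • m) = σ r • e m) {ι : Type*} (b : Module.Basis ι R M) :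
    Module.Basis ι S N :=
  letI : Module R N := Module.compHom N σ.toRingHom
  (b.map ({ e with map_smul' := fun r m => he r m } : M ≃ₗ[R] N)).mapCoeffs σ (fun _ _ => rfl)

variable {X : Scheme.{u}}

/-- The stalks of a module of constant rank `r` have bases with `r` elements. -/
theorem exists_basis_stalk {M : X.Modules} {r : ℕ} (h : FlatMod.IsFinLocFreeOfRank r M) (x : X) :
    Nonempty (Module.Basis (Fin r) (X.presheaf.stalk x) (M.presheaf.stalk x)) := by
  obtain ⟨U, hx, ⟨a⟩⟩ := h x
  let b : Module.Basis (Fin r) ((U : Scheme.{u}).presheaf.stalk (pt U hx))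
      ((M.restrict U.ι).presheaf.stalk (pt U hx)) :=
    Module.Basis.ofEquivFun ((stalkLinEquiv a (pt U hx)).trans (stalkFree r (pt U hx)).symm)
  exact ⟨basisOfSemilinear (σo U hx).symm (ρo U hx M) (ρo_smul' U hx M) b⟩

/-- An epimorphism between finite locally free modules of the same rank is an isomorphism. -/
theorem isIso_of_epi {M N : X.Modules} {r : ℕ} (hM : FlatMod.IsFinLocFreeOfRank r M)
    (hN : FlatMod.IsFinLocFreeOfRank r N) (φ : M ⟶ N) [Epi φ] : IsIso φ := by
  have : Mono φ := by
    rw [mono_iff_stalkLin]
    intro x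
    obtain ⟨a⟩ := exists_basis_stalk hM x
    obtain ⟨b⟩ := exists_basis_stalk hN x
    have h1 : Function.Surjective (stalkLin φ x) := stalkLin_surjective φ x
    let e : N.presheaf.stalk x ≃ₗ[X.presheaf.stalk x] M.presheaf.stalk x :=
      b.equivFun.trans a.equivFun.symm
    have h2 : Function.Surjective (e.toLinearMap ∘ₗ stalkLin φ x) := e.surjective.comp h1
    have : Module.Finite (X.presheaf.stalk x) (M.presheaf.stalk x) := Module.Finite.of_basis a
    have h3 := OrzechProperty.injective_of_surjective_endomorphism _ h2
    have h4 : Function.Injective (⇑e ∘ ⇑(stalkLin φ x)) := h3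
    exact h4.of_comp
  exact isIso_of_mono_of_epi _

/-- The stalks of a finite locally free module of constant rank, basis form of the pull-back. -/
theorem isFinLocFreeOfRank_of_iso {M N : X.Modules} {r : ℕ} (e : M ≅ N)
    (h : FlatMod.IsFinLocFreeOfRank r M) : FlatMod.IsFinLocFreeOfRank r N := by
  intro x
  obtain ⟨U, hx, ⟨a⟩⟩ := h x
  exact ⟨U, hx, ⟨((Scheme.Modules.restrictFunctor U.ι).mapIso e).symm ≪≫ a⟩⟩

variable {Z Z' X' : Scheme.{u}} {i : Z ⟶ X} {i' : Z' ⟶ X'} {g : X' ⟶ X} {h : Z' ⟶ Z}

/-- Base change of the conormal module for a fibre square of closed immersions of the same rank. -/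
theorem nonempty_iso_conormal (H : IsPullback i' h g i) [IsClosedImmersion i] [IsClosedImmersion i']
    {d : ℕ} (hi : FlatMod.IsFinLocFreeOfRank d ((Scheme.Modules.pullback h).obj (Omega.conormal i)))
    (hi' : FlatMod.IsFinLocFreeOfRank d (Omega.conormal i')) :
    Nonempty ((Scheme.Modules.pullback h).obj (Omega.conormal i) ≅ Omega.conormal i') := by
  have h1 : Epi (conormalMap H.w) := epi_conormalMap H
  have := isIso_of_epi hi hi' (conormalMap H.w)
  exact ⟨asIso (conormalMap H.w)⟩

end Groth.Agent.Krr.H450.ConormalIso
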