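import Groth.Agent.Krr.H450.Assembly
import Groth.Agent.Krr.H466.ClosedLF
import Groth.Agent.Krr.H495.Rank

/-!
# The Adams–Riemann–Roch formula for isomorphisms
-/

set_option autoImplicit false

open CategoryTheory CategoryTheory.Limits AlgebraicGeometry

universe v w u

namespace Groth.Agent.Krr.H450.IsoCase

open KRR Groth.Agent.Krr.H482.LamAlg Groth.Agent.Krr.H482.PullLambda
  Groth.Agent.Krr.H482.PullFinal

variable {X Y : Scheme.{u}}

/-- For an isomorphism `f`, `(f⁻¹)^* E ≅ f_* E`. -/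
theorem nonempty_pullback_inv (f : X ⟶ Y) [IsIso f] (E : X.Modules) :
    Nonempty ((Scheme.Modules.pullback (inv f)).obj E ≅ (Scheme.Modules.pushforward f).obj E) := by
  have := Groth.Agent.Krr.H466.ClosedLF.isIso_counit f
  let e1 : (Scheme.Modules.pullback f).obj ((Scheme.Modules.pushforward f).obj E) ≅ E :=
    asIso ((Scheme.Modules.pullbackPushforwardAdjunction f).counit.app E)
  let e2 := (Scheme.Modules.pullbackComp (inv f) f).app ((Scheme.Modules.pushforward f).obj E) ≪≫
    (Scheme.Modules.pullbackCongr (IsIso.inv_hom_id f)).app _ ≪≫ (Scheme.Modules.pullbackId Y).app _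
  exact ⟨(Scheme.Modules.pullback (inv f)).mapIso e1.symm ≪≫ e2⟩

/-- The resolution of length zero. -/
theorem isLFRes_self {M : Y.Modules} (hM : FlatMod.IsFinLocFree M) :
    IsLFRes M 0 ((ChainComplex.single₀ Y.Modules).obj M) (𝟙 _) where
  finLocFree i := by
    rcases Nat.eq_zero_or_pos i with rfl | hi
    · exact hM
    · exact Groth.Agent.Sga67.ExtClass.isFinLocFree_zero
        (HomologicalComplex.isZero_single_obj_X _ _ _ _ hi.ne')
  isZero i hi := HomologicalComplex.isZero_single_obj_X _ _ _ _ hi.ne'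
  quasiIso := inferInstance

theorem cl_isZero {Z : X.Modules} (hZ : IsZero Z) : cl X Z = 0 := by
  have h : FlatMod.IsFinLocFree Z := Groth.Agent.Sga67.ExtClass.isFinLocFree_zero hZ
  have hS : (ShortComplex.mk (0 : Z ⟶ Z) (0 : Z ⟶ Z) (by simp)).ShortExact := by
    have : Mono (0 : Z ⟶ Z) := ⟨fun _ _ _ => hZ.eq_of_tgt _ _⟩
    have : Epi (0 : Z ⟶ Z) := ⟨fun _ _ _ => hZ.eq_of_src _ _⟩
    exact ⟨ShortComplex.exact_of_isZero_X₂ _ hZ⟩
  have h1 := Groth.Agent.Sga67.KvbRing.c_ses hS h h h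
  simpa using h1

variable
  {KX : Type v} [CommRing KX] [LambdaRing.LambdaOps KX] {PX : LambdaRing.PosStructure KX}
  {φX : SGA6.Kvb X →+ KX}
  {KY : Type w} [CommRing KY] [LambdaRing.LambdaOps KY] {PY : LambdaRing.PosStructure KY}
  {φY : SGA6.Kvb Y →+ KY}

/-- For an isomorphism the push-forward is the pull-back along the inverse. -/
theorem isPull_inv (f : X ⟶ Y) [IsIso f] {h : KX →+ KY} (hh : IsPushCl f φX φY h) :
    IsPull (inv f) φX φY h := by
  intro E hE
  obtain ⟨e⟩ := nonempty_pullback_inv f E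
  have h1 : FlatMod.IsFinLocFree ((Scheme.Modules.pullback (inv f)).obj E) :=
    isFinLocFree_pullback (inv f) hE
  have h2 : FlatMod.IsFinLocFree ((Scheme.Modules.pushforward f).obj E) :=
    Groth.Agent.Sga67.LocBasis.isFinLocFree_of_iso e h1
  have h3 := hh E hE 0 _ _ (isLFRes_self h2)
  rw [h3, Finset.sum_range_one, pow_zero, one_smul]
  exact congrArg φY (cl_iso e h1).symm

theorem bott_zero' {K : Type v} [CommRing K] [LambdaRing.LambdaOps K]
    (P : LambdaRing.PosStructure K) (j : ℕ) : KRR.bott P j 0 = 1 := by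
  have h0 : P.aug 0 = (0 : ℕ) := by rw [map_zero]; rfl
  rw [MapOps.bott_eq_theta h0, MapOps.theta]
  have h2 : KRR.bottSym j 0 = 1 := by simp [KRR.bottSym]
  have h3 : (⟨KRR.bottSym j 0, KRR.bottSym_isSymmetric j 0⟩ :
      MvPolynomial.symmetricSubalgebra (Fin 0) ℤ) = 1 := Subtype.ext h2
  rw [KRR.bottPoly, h3, map_one, map_one]

/-- The Adams–Riemann–Roch formula for isomorphisms. -/
theorem rr_of_isIso (f : X ⟶ Y) [IsIso f] (hKX : IsModel X KX PX φX) (hKY : IsModel Y KY PY φY)
    (hC : FlatMod.IsFinLocFreeOfRank 0 (Omega.conormal f)) {h : KX →+ KY}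
    (hh : IsPushCl f φX φY h) {j : ℕ} (hj : 1 ≤ j) (x : KX) :
    LambdaRing.adams PY j (h x) =
      h (bott PX j (φX (cl X (Omega.conormal f))) * LambdaRing.adams PX j x) := by
  rw [cl_isZero (Groth.Agent.Krr.H495.Rank.isZero_of_rank_zero hC), map_zero, bott_zero', one_mul]
  exact (Assembly.pull_adams hKY hKX (isPull_inv f hh) hj x).symm

end Groth.Agent.Krr.H450.IsoCase
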