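import Groth.Agent.Krr.H482.LamAlg
import Groth.Prelude.Def_KRR

/-!
# Adams operations, Bott classes and λ_{-1} under λ-homomorphisms between different universes

For a ring homomorphism `q : K →+* K'` (any universes) and an element `x` at which `q` commutes with all `λ^i`
(`CommAt q x`) and with the augmentation: `q (ψ^j x) = ψ^j (q x)`, `q (θ^j x) = θ^j (q x)`,
`q (λ_{-1} x) = λ_{-1} (q x)`.  For `j ≥ 1` the Adams operation does not depend on the augmentation.
-/

set_option autoImplicit false

universe v w

open LambdaRing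

namespace Groth.Agent.Krr.H450.MapOps

open Groth.Agent.Krr.H482.LamAlg

variable {K : Type v} [CommRing K] [LambdaOps K] {K' : Type w} [CommRing K'] [LambdaOps K']

/-- `λ_{-t}(x)` -/
noncomputable abbrev R (x : K) : PowerSeries K := PowerSeries.rescale (-1 : K) (lamSeries x)

theorem constantCoeff_R (x : K) : PowerSeries.constantCoeff (R x) = 1 := by
  rw [← PowerSeries.coeff_zero_eq_constantCoeff_apply, R, PowerSeries.coeff_rescale, pow_zero, one_mul,
    PowerSeries.coeff_zero_eq_constantCoeff_apply, constantCoeff_lamSeries]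

theorem R_mul_inv (x : K) : R x * (R x).invOfUnit 1 = 1 :=
  PowerSeries.mul_invOfUnit _ _ (by rw [constantCoeff_R, Units.val_one])

theorem map_R {q : K →+* K'} {x : K} (hx : CommAt q x) : PowerSeries.map q (R x) = R (q x) := by
  ext n
  rw [PowerSeries.coeff_map, R, R, PowerSeries.coeff_rescale, PowerSeries.coeff_rescale, map_mul, map_pow,
    map_neg, map_one, lamSeries, lamSeries, PowerSeries.coeff_mk, PowerSeries.coeff_mk, hx n]

theorem map_R_inv {q : K →+* K'} {x : K} (hx : CommAt q x) :
    PowerSeries.map q ((R x).invOfUnit 1) = (R (q x)).invOfUnit 1 := by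
  have h2 : R (q x) * PowerSeries.map q ((R x).invOfUnit 1) = 1 := by
    rw [← map_R hx, ← map_mul, R_mul_inv, map_one]
  have h3 := R_mul_inv (q x)
  calc PowerSeries.map q ((R x).invOfUnit 1) =
      (R (q x) * (R (q x)).invOfUnit 1) * PowerSeries.map q ((R x).invOfUnit 1) := by
        rw [h3, one_mul]
    _ = (R (q x) * PowerSeries.map q ((R x).invOfUnit 1)) * (R (q x)).invOfUnit 1 := by ring
    _ = _ := by rw [h2, one_mul]

theorem map_R_derivative {q : K →+* K'} {x : K} (hx : CommAt q x) :
    PowerSeries.map q (PowerSeries.derivative K (R x)) = PowerSeries.derivative K' (R (q x)) := by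
  rw [← map_R hx]
  ext n
  rw [PowerSeries.coeff_map, PowerSeries.coeff_derivative, PowerSeries.coeff_derivative,
    PowerSeries.coeff_map]
  simp

/-- the Adams operations `ψ^j`, `j ≥ 1`, without augmentation -/
noncomputable def psi (j : ℕ) (x : K) : K :=
  PowerSeries.coeff j (-(PowerSeries.X * (PowerSeries.derivative K (R x)) * (R x).invOfUnit 1))

theorem adams_eq_psi (P : PosStructure K) {j : ℕ} (hj : 1 ≤ j) (x : K) : adams P j x = psi j x := by
  rw [adams, adamsSeries, psi, map_sub, map_neg, PowerSeries.coeff_C, if_neg (by lia), zero_sub]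

theorem map_psi {q : K →+* K'} {x : K} (hx : CommAt q x) (j : ℕ) : q (psi j x) = psi j (q x) := by
  rw [psi, psi, ← PowerSeries.coeff_map, map_neg, map_mul, map_mul, map_R_inv hx, map_R_derivative hx,
    PowerSeries.map_X]

/-- `ψ^j` commutes with `λ`-homomorphisms. -/
theorem map_adams {P : PosStructure K} {P' : PosStructure K'} {q : K →+* K'} {x : K} (hx : CommAt q x)
    {j : ℕ} (hj : 1 ≤ j) : q (adams P j x) = adams P' j (q x) := by
  rw [adams_eq_psi P hj, adams_eq_psi P' hj, map_psi hx]

/-- `λ_{-1}` commutes with `λ`-homomorphisms. -/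
theorem map_lamAlt {P : PosStructure K} {P' : PosStructure K'} {q : K →+* K'} {x : K} (hx : CommAt q x)
    (haug : P'.aug (q x) = P.aug x) : q (KRR.lamAlt P x) = KRR.lamAlt P' (q x) := by
  rw [KRR.lamAlt, KRR.lamAlt, map_sum, haug]
  refine Finset.sum_congr rfl fun i _ => ?_
  rw [map_mul, map_pow, map_neg, map_one, hx i]

/-- `θ^j` with the number of variables explicit -/
noncomputable def theta (m j : ℕ) (e : K) : K :=
  MvPolynomial.aeval (fun i : Fin m => LambdaOps.lam (i.1 + 1) e) (KRR.bottPoly j m)

theorem bott_eq_theta {P : PosStructure K} {e : K} {m : ℕ} (h : P.aug e = m) (j : ℕ) :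
    KRR.bott P j e = theta m j e := by
  have h1 : (P.aug e).toNat = m := by rw [h, Int.toNat_natCast]
  subst h1
  rfl

theorem map_theta {q : K →+* K'} {x : K} (hx : CommAt q x) (m j : ℕ) :
    q (theta m j x) = theta m j (q x) := by
  have h2 : q.toIntAlgHom.comp (MvPolynomial.aeval (fun i : Fin m => LambdaOps.lam (i.1 + 1) x)) =
      MvPolynomial.aeval (fun i : Fin m => LambdaOps.lam (i.1 + 1) (q x)) := by
    rw [MvPolynomial.comp_aeval]
    congr 1
    ext1 i
    exact hx _
  exact DFunLike.congr_fun h2 (KRR.bottPoly j m)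

/-- `θ^j` commutes with `λ`-homomorphisms. -/
theorem map_bott {P : PosStructure K} {P' : PosStructure K'} {q : K →+* K'} {x : K} (hx : CommAt q x)
    (haug : P'.aug (q x) = P.aug x) (j : ℕ) : q (KRR.bott P j x) = KRR.bott P' j (q x) := by
  have h1 : q (KRR.bott P j x) = theta (P.aug x).toNat j (q x) := map_theta hx _ j
  rw [h1, KRR.bott, haug]
  rfl

end Groth.Agent.Krr.H450.MapOps
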