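import Groth.Agent.Krr.H450.Main1
import Groth.Agent.Krr.H458.HDiv

/-!
# Adams–Riemann–Roch for regular closed immersions into schemes with an ample module
-/

set_option autoImplicit false

open CategoryTheory CategoryTheory.Limits AlgebraicGeometry

universe v w u

namespace Groth.Agent.Krr.H450.Main

open KRR Groth.Agent.Krr.H458.SecP1 MainCond Groth.Agent.Sga67.KvbRing

theorem divHyp : Main1.DivHyp.{u} := by
  intro X Y _ hY f hf d hC G hGF hGg _ j hj gF hgF gg0 hgg0 qg0 hqg0 qE hqE
  have := hf.1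
  exact Groth.Agent.Krr.H458.HDiv.exists_ab hY f G.hb G.hF hGF hGg
    (IsPullback.of_hasPullback G.b (f ≫ sec 1 Y)) (Groth.Agent.Krr.H495.Model.isModel G.M)
    (toKR (KRR.PY 1 X)).surjective (toKR _).injective hj hgF hgg0 hqg0 hqE

/-- **The Adams–Riemann–Roch formula** for a regular closed immersion `f : X ⟶ Y` of constant codimension, `X`
connected, `Y` Noetherian, connected, with an ample module; any models of `K(X)` and `K(Y)`. -/
theorem adams_push {X Y : Scheme.{u}} [IsNoetherian Y] [ConnectedSpace ↥Y] [ConnectedSpace ↥X]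
    (hY : ∃ L : Y.Modules, CohB1.IsAmple L)
    {f : X ⟶ Y} (hf : Mor2.IsRegularClosedImmersion f) {d : ℕ}
    (hC : FlatMod.IsFinLocFreeOfRank d (Omega.conormal f))
    {KX : Type v} [CommRing KX] [LambdaRing.LambdaOps KX] {PX : LambdaRing.PosStructure KX} {φX : SGA6.Kvb X →+ KX}
    (hKX : IsModel X KX PX φX)
    {KY : Type w} [CommRing KY] [LambdaRing.LambdaOps KY] {PY : LambdaRing.PosStructure KY} {φY : SGA6.Kvb Y →+ KY}
    (hKY : IsModel Y KY PY φY)
    (h : KX →+ KY) (hh : IsPushCl f φX φY h) {j : ℕ} (hj : 1 ≤ j) (x : KX) :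
    LambdaRing.adams PY j (h x) = h (bott PX j (φX (cl X (Omega.conormal f))) * LambdaRing.adams PX j x) :=
  Main1.adams_push hY hf hC hKX hKY h hh hj x divHyp

end Groth.Agent.Krr.H450.Main
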