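import Groth.Agent.Krr.H450.MainGeom
import Groth.Agent.Krr.H447.D6
import Groth.Agent.S3785

/-!
# Adams–Riemann–Roch for regular closed immersions into schemes with an ample module

Conditional on the divisor relations (`DivHyp`).
-/

set_option autoImplicit false

open CategoryTheory CategoryTheory.Limits AlgebraicGeometry

universe v w u

namespace Groth.Agent.Krr.H450.Main1

open KRR Groth.Agent.Krr.H458.SecP1 Groth.Agent.Krr.H501.DefP1 MainCond Groth.Agent.Sga67.KvbRing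

theorem splitHyp : SplitHyp.{u} := fun E _ _ =>
  Groth.Agent.S3785.result E (KR E) (Groth.Agent.Krr.H495.Model.pos E) _ (Groth.Agent.Krr.H495.Model.isModel E)

/-- The divisor relations on the deformation space. -/
def DivHyp : Prop := ∀ {X Y : Scheme.{u}} [IsNoetherian Y] (_ : ∃ L : Y.Modules, CohB1.IsAmple L)
    {f : X ⟶ Y} (_ : Mor2.IsRegularClosedImmersion f) {d : ℕ}
    (_ : FlatMod.IsFinLocFreeOfRank d (Omega.conormal f)) (G : Geom f d)
    (_ : G.F ≫ G.b = KRR.projSpaceMap 1 f) (_ : G.g0 ≫ G.b = sec 0 Y) [ConnectedSpace ↥G.M] {j : ℕ} (_ : 1 ≤ j)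
    (gF : KR (KRR.PY 1 X) →+ KR G.M) (_ : IsPushCl G.F (φ _) (φ _) gF)
    (gg0 : KR Y →+ KR G.M) (_ : IsPushCl G.g0 (φ _) (φ _) gg0)
    (qg0 : KR G.M →+ KR Y) (_ : IsPull G.g0 (φ _) (φ _) qg0)
    (qE : KR G.M →+ KR (pullback G.b (f ≫ sec 1 Y))) (_ : IsPull (pullback.fst G.b (f ≫ sec 1 Y)) (φ _) (φ _) qE),
      ∃ a b : KR G.M, (∀ z, qE z = 0 → z * (1 - a) = 0) ∧
        (∀ p, LambdaRing.adams (Groth.Agent.Krr.H495.Model.pos G.M) j (gF p) * (1 - b) = 0) ∧
        (∀ p, gF p * (1 - b) = 0) ∧ (∀ z, gg0 (qg0 z) = z * (1 - a * b))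

section

variable {X Y : Scheme.{u}} [IsNoetherian Y] [ConnectedSpace ↥Y] [ConnectedSpace ↥X]
    (hY : ∃ L : Y.Modules, CohB1.IsAmple L)
    {f : X ⟶ Y} (hf : Mor2.IsRegularClosedImmersion f) {d : ℕ}
    (hC : FlatMod.IsFinLocFreeOfRank d (Omega.conormal f))
    {KX : Type v} [CommRing KX] [LambdaRing.LambdaOps KX] {PX : LambdaRing.PosStructure KX} {φX : SGA6.Kvb X →+ KX}
    (hKX : IsModel X KX PX φX)
    {KY : Type w} [CommRing KY] [LambdaRing.LambdaOps KY] {PY : LambdaRing.PosStructure KY} {φY : SGA6.Kvb Y →+ KY}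
    (hKY : IsModel Y KY PY φY)
    (h : KX →+ KY) (hh : IsPushCl f φX φY h) {j : ℕ} (hj : 1 ≤ j) (x : KX)

include hY hf hC hKX hKY hh hj

/-- The Adams–Riemann–Roch formula. -/
theorem adams_push (hdiv : DivHyp.{u}) :
    LambdaRing.adams PY j (h x) = h (bott PX j (φX (cl X (Omega.conormal f))) * LambdaRing.adams PX j x) := by
  have := hf.1
  obtain ⟨G, hGF, hGg⟩ := MainGeom.exists_geom hf hC
  have hrk := SecRank.isRegular_and_rank_comp_sec hf hC 1
  have : ConnectedSpace ↥G.M := Groth.Agent.Krr.H458.Defo.connectedSpace_M G.hb (Groth.Agent.Krr.H458.Defo.idl_le_ker f 1)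
  refine Assembly.transport f _ hj hKX hKY (Groth.Agent.Krr.H495.Model.isModel X)
    (Groth.Agent.Krr.H495.Model.isModel Y) (fun h' hh' x => ?_) h hh x
  refine adams_push_KR hY splitHyp hf hC G hrk hj (fun gF hgF gg0 hgg0 qg0 hqg0 qE hqE =>
    hdiv hY hf hC G hGF hGg hj gF hgF gg0 hgg0 qg0 hqg0 qE hqE) (fun gg0 hgg0 => ?_) h' hh' x
  exact Groth.Agent.Krr.H447.D6.injective hY (f ≫ sec 1 Y) hrk.1 G.b G.hb G.g0 G.hg0
    (by rw [← Category.assoc, hGg, sec_pr]) (toKR Y).bijective (toKR G.M).bijective hgg0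

end

end Groth.Agent.Krr.H450.Main1
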