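import Groth.Agent.Krr.H489.PushTI
import Mathlib.AlgebraicGeometry.Noetherian
import Mathlib.AlgebraicGeometry.Morphisms.UniversallyOpen
import Mathlib.AlgebraicGeometry.Morphisms.FlatDescent

/-!
# Regular closed immersions of codimension zero

A regular closed immersion `f : X ⟶ Y` with `X` nonempty, `Y` locally Noetherian and connected, and conormal module of
rank `0` is an isomorphism.
-/

set_option autoImplicit false
universe u
open CategoryTheory CategoryTheory.Limits AlgebraicGeometry

namespace Groth.Agent.Krr.H450.RankZero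

open Groth.Agent.Flat2D.PbStalk

variable {X Y : Scheme.{u}}

theorem isIso_stalkMap (f : X ⟶ Y) (hf : Mor2.IsRegularClosedImmersion f) [IsLocallyNoetherian Y]
    (hC : FlatMod.IsFinLocFreeOfRank 0 (Omega.conormal f)) (x : X) : IsIso (f.stalkMap x) := by
  have := hf.1
  obtain ⟨l, hl, -, hker⟩ := Groth.Agent.Krr.H489.PushTI.exists_list hf hC x (m := f x) rfl
  rw [List.length_eq_zero_iff.mp hl, Ideal.ofList_nil, stalkTo_rfl] at hker
  have h1 : Function.Injective (f.stalkMap x).hom := (RingHom.injective_iff_ker_eq_bot _).mpr hker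
  have h2 : Function.Surjective (f.stalkMap x).hom := f.stalkMap_surjective x
  exact (ConcreteCategory.isIso_iff_bijective (f.stalkMap x)).mpr ⟨h1, h2⟩

theorem isIso_of_rank_zero (f : X ⟶ Y) (hf : Mor2.IsRegularClosedImmersion f) [IsLocallyNoetherian Y]
    [PreconnectedSpace ↥Y] [Nonempty ↥X] (hC : FlatMod.IsFinLocFreeOfRank 0 (Omega.conormal f)) :
    IsIso f := by
  have := hf.1
  have h1 : Flat f := by
    rw [Flat.iff_flat_stalkMap]
    intro x
    have := isIso_stalkMap f hf hC x
    exact RingHom.Flat.of_bijective ((ConcreteCategory.isIso_iff_bijective (f.stalkMap x)).mp this)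
  have h2 : LocallyOfFinitePresentation f := LocallyOfFinitePresentation.iff_locallyOfFiniteType.mpr inferInstance
  have h3 : IsOpenMap f := f.isOpenMap
  have h4 : IsOpen (Set.range f) := h3.isOpen_range
  have h5 : IsClosed (Set.range f) := f.isClosedEmbedding.isClosed_range
  have h6 : Set.range f = Set.univ := IsClopen.eq_univ ⟨h5, h4⟩ (Set.range_nonempty _)
  rw [isIso_iff_isIso_stalkMap]
  refine ⟨?_, fun x => isIso_stalkMap f hf hC x⟩
  have h7 : IsHomeomorph f := ⟨f.continuous, h3, f.isClosedEmbedding.injective, Set.range_eq_univ.mp h6⟩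
  exact (TopCat.isIso_iff_isHomeomorph _).mpr h7

end Groth.Agent.Krr.H450.RankZero
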