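import Groth.Agent.Krr.H450.Pieces
import Groth.Agent.Krr.H450.IsoCase
import Groth.Agent.Krr.H450.RankZero
import Groth.Agent.Krr.H458.Defo
import Groth.Agent.Krr.H483.PBTop
import Groth.Agent.Krr.H496.ExcBundle
import Groth.Agent.Krr.H478.SectRR
import Groth.Agent.Krr.H501.RegLen
import Groth.Agent.Flat2C.BlowExist

/-!
# Adams–Riemann–Roch for regular closed immersions (conditional form)

The geometric inputs that are still being written are hypotheses here:
* `SplitHyp`: the splitting property of K(E) (S3785);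
* `LiftHyp`: the lift of `P^1_X` to the deformation space (D4);
* `DivHyp`: the divisor relations (D5);
* `InjHyp`: injectivity of the push-forward along the fibre over `0` (D6).
-/

set_option autoImplicit false

open CategoryTheory CategoryTheory.Limits AlgebraicGeometry

universe v w u

namespace Groth.Agent.Krr.H450.MainCond

open KRR Groth.Agent.Krr.H482.LamAlg Groth.Agent.Krr.H482.PullLambda
  Groth.Agent.Krr.H458.SecP1 Groth.Agent.Sga67.KvbRing

/-- The model `KR X` of `K(X)`. -/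
noncomputable abbrev φ (X : Scheme.{u}) : SGA6.Kvb X →+ KR X := (toKR X).toAddMonoidHom

/-- The splitting property for the λ-ring `K(E)`. -/
def SplitHyp : Prop := ∀ (E : Scheme.{u}) [IsNoetherian E] [ConnectedSpace E],
  LambdaRing.HasSplitting (KR E) (Groth.Agent.Krr.H495.Model.pos E)

section

variable {X Y : Scheme.{u}} (f : X ⟶ Y) (d : ℕ)

/-- The geometry of the deformation space. -/
structure Geom where
  M : Scheme.{u}
  b : M ⟶ KRR.PY 1 Y
  hb : BlowUp.IsBlowUp b (f ≫ sec 1 Y).ker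
  F : KRR.PY 1 X ⟶ M
  hF : Mor2.IsRegularClosedImmersion F
  hFc : FlatMod.IsFinLocFreeOfRank d (Omega.conormal F)
  g0 : Y ⟶ M
  hg0 : Mor2.IsRegularClosedImmersion g0
  sq0 : IsPullback f (sec 0 X) g0 F
  s : X ⟶ pullback b (f ≫ sec 1 Y)
  hs : s ≫ pullback.snd b (f ≫ sec 1 Y) = 𝟙 X
  hsr : Mor2.IsRegularClosedImmersion s
  hsc : FlatMod.IsFinLocFreeOfRank d (Omega.conormal s)
  sqE : IsPullback s (sec 1 X) (pullback.fst b (f ≫ sec 1 Y)) F

end

/-- Conditional form of the Adams–Riemann–Roch formula, codimension `≥ 1`. -/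
theorem adams_push_KR {X Y : Scheme.{u}} [IsNoetherian Y] [ConnectedSpace ↥Y] [ConnectedSpace ↥X]
    (hY : ∃ L : Y.Modules, CohB1.IsAmple L) (hsplit : SplitHyp.{u})
    {f : X ⟶ Y} (hf : Mor2.IsRegularClosedImmersion f) {d : ℕ}
    (hC : FlatMod.IsFinLocFreeOfRank d (Omega.conormal f)) (G : Geom f d)
    (hrk : Mor2.IsRegularClosedImmersion (f ≫ sec 1 Y) ∧
      FlatMod.IsFinLocFreeOfRank (d + 1) (Omega.conormal (f ≫ sec 1 Y)))
    [ConnectedSpace ↥G.M] {j : ℕ} (hj : 1 ≤ j)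
    (hdiv : ∀ (gF : KR (KRR.PY 1 X) →+ KR G.M), IsPushCl G.F (φ _) (φ _) gF →
      ∀ (gg0 : KR Y →+ KR G.M), IsPushCl G.g0 (φ _) (φ _) gg0 →
      ∀ (qg0 : KR G.M →+ KR Y), IsPull G.g0 (φ _) (φ _) qg0 →
      ∀ (qE : KR G.M →+ KR (pullback G.b (f ≫ sec 1 Y))),
        IsPull (pullback.fst G.b (f ≫ sec 1 Y)) (φ _) (φ _) qE →
      ∃ a b : KR G.M, (∀ z, qE z = 0 → z * (1 - a) = 0) ∧
        (∀ p, LambdaRing.adams (Groth.Agent.Krr.H495.Model.pos G.M) j (gF p) * (1 - b) = 0) ∧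
        (∀ p, gF p * (1 - b) = 0) ∧ (∀ z, gg0 (qg0 z) = z * (1 - a * b)))
    (hinj : ∀ (gg0 : KR Y →+ KR G.M), IsPushCl G.g0 (φ _) (φ _) gg0 → Function.Injective gg0)
    (h : KR X →+ KR Y) (hh : IsPushCl f (φ _) (φ _) h) (x : KR X) :
    LambdaRing.adams (Groth.Agent.Krr.H495.Model.pos Y) j (h x) =
      h (bott (Groth.Agent.Krr.H495.Model.pos X) j (φ X (cl X (Omega.conormal f))) *
        LambdaRing.adams (Groth.Agent.Krr.H495.Model.pos X) j x) := by
  have := hf.1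
  have : IsNoetherian X := Groth.Agent.Krr.H458.Defo.isNoetherian_of_closed f
  have hM : IsNoetherian G.M := Groth.Agent.Krr.H458.Defo.isNoetherian_M G.hb
  have hMe : HasEnoughLocFree G.M := Groth.Agent.Krr.H458.Defo.hasEnoughLocFree_M hY G.hb
  have : IsClosedImmersion (f ≫ sec 1 Y) := inferInstance
  have hiE : IsClosedImmersion (pullback.fst G.b (f ≫ sec 1 Y)) := inferInstance
  have hPB := Groth.Agent.Krr.H496.ExcBundle.isProjBundle_exc hrk.1 G.hb
    (IsPullback.of_hasPullback G.b (f ≫ sec 1 Y))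
  have hE : IsNoetherian (pullback G.b (f ≫ sec 1 Y) : Scheme.{u}) :=
    Groth.Agent.Krr.H458.Defo.isNoetherian_of_closed (pullback.fst G.b (f ≫ sec 1 Y))
  have hEc : ConnectedSpace ↥(pullback G.b (f ≫ sec 1 Y) : Scheme.{u}) :=
    Groth.Agent.Krr.H483.PBTop.connectedSpace hrk.2 hPB
  have hEe : HasEnoughLocFree (pullback G.b (f ≫ sec 1 Y) : Scheme.{u}) :=
    Groth.Agent.Krr.H458.Defo.hasEnoughLocFree_of_closed hMe (pullback.fst G.b (f ≫ sec 1 Y))
  refine Pieces.adams_push_of_pieces (PX := Groth.Agent.Krr.H495.Model.pos X)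
    (PY := Groth.Agent.Krr.H495.Model.pos Y) (PP := Groth.Agent.Krr.H495.Model.pos (KRR.PY 1 X))
    (PM := Groth.Agent.Krr.H495.Model.pos G.M)
    (PE := Groth.Agent.Krr.H495.Model.pos (pullback G.b (f ≫ sec 1 Y) : Scheme.{u}))
    (Groth.Agent.Krr.H495.Model.isModel X)
    (Groth.Agent.Krr.H495.Model.isModel Y) (Groth.Agent.Krr.H495.Model.isModel (KRR.PY 1 X))
    (Groth.Agent.Krr.H495.Model.isModel G.M)
    (Groth.Agent.Krr.H495.Model.isModel (pullback G.b (f ≫ sec 1 Y) : Scheme.{u}))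
    hMe hEe hf hC G.hF G.hFc G.hg0 (r := KRR.pr 1 X) (sec_pr 0 X) (sec_pr 1 X) G.sq0 G.hsr G.hsc G.sqE hj
    ?_ hdiv hinj h hh x
  intro gs hgs x
  exact Groth.Agent.Krr.H478.SectRR.rr_section hEe hrk.2 hPB G.s G.hs
    (Groth.Agent.Krr.H495.Model.isModel X)
    (Groth.Agent.Krr.H495.Model.isModel (pullback G.b (f ≫ sec 1 Y) : Scheme.{u})) (hsplit _) hgs hj x

end Groth.Agent.Krr.H450.MainCond
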