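import Groth.Agent.Krr.H458.SecP1
import Groth.Agent.Krr.H501.RegLen

/-!
# Codimension of an effective Cartier divisor and of `f ≫ sec i Y`
-/

set_option autoImplicit false

open CategoryTheory CategoryTheory.Limits AlgebraicGeometry

universe u

namespace Groth.Agent.Krr.H450.SecRank

open Groth.Agent.Krr.H501.RegLen Groth.Agent.Krr.H458.SecP1

theorem regAtLen_of_isEff {X : Scheme.{u}} {I : X.IdealSheafData} (h : BlowUp.IsEffCartierIdeal I) (x : X) :
    RegAtLen I 1 x := by
  obtain ⟨U, hx, a, ha, hU⟩ := h x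
  refine ⟨U, hx, [a], ?_, rfl, ?_⟩
  · rw [RingTheory.Sequence.isWeaklyRegular_singleton_iff, isSMulRegular_iff_right_eq_zero_of_smul]
    intro y hy
    rw [mem_nonZeroDivisors_iff_left] at ha
    exact ha y hy
  · rw [Ideal.ofList_singleton]
    exact hU

/-- A closed immersion with effective Cartier ideal is regular of codimension one. -/
theorem isRegular_and_rank_of_isEff {Z X : Scheme.{u}} (i : Z ⟶ X) [IsClosedImmersion i]
    (h : BlowUp.IsEffCartierIdeal i.ker) :
    Mor2.IsRegularClosedImmersion i ∧ FlatMod.IsFinLocFreeOfRank 1 (Omega.conormal i) :=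
  (isRegular_and_rank_iff i 1).2 fun _ => regAtLen_of_isEff h _

theorem isRegular_and_rank_sec (i : Fin 2) (Y : Scheme.{u}) :
    Mor2.IsRegularClosedImmersion (sec i Y) ∧ FlatMod.IsFinLocFreeOfRank 1 (Omega.conormal (sec i Y)) :=
  isRegular_and_rank_of_isEff (sec i Y) (isEff_idl i Y)

theorem isRegular_and_rank_comp_sec {X Y : Scheme.{u}} {f : X ⟶ Y} (hf : Mor2.IsRegularClosedImmersion f) {d : ℕ}
    (hC : FlatMod.IsFinLocFreeOfRank d (Omega.conormal f)) (i : Fin 2) :
    Mor2.IsRegularClosedImmersion (f ≫ sec i Y) ∧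
      FlatMod.IsFinLocFreeOfRank (d + 1) (Omega.conormal (f ≫ sec i Y)) := by
  have h := isRegular_and_rank_comp f (sec i Y) hf hC (isRegular_and_rank_sec i Y).1 (isRegular_and_rank_sec i Y).2
  rwa [add_comm 1 d] at h

end Groth.Agent.Krr.H450.SecRank
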