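import Groth.Agent.Krr.H450.MainCond
import Groth.Agent.Krr.H450.SecRank
import Groth.Agent.Krr.H501.DefP1

/-!
# The deformation space exists (input `Geom` of `MainCond`)
-/

set_option autoImplicit false

open CategoryTheory CategoryTheory.Limits AlgebraicGeometry

universe v w u

namespace Groth.Agent.Krr.H450.MainGeom

open KRR Groth.Agent.Krr.H458.SecP1 Groth.Agent.Krr.H501.DefP1 MainCond

theorem exists_geom {X Y : Scheme.{u}} [IsNoetherian Y] {f : X ⟶ Y} (hf : Mor2.IsRegularClosedImmersion f) {d : ℕ}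
    (hC : FlatMod.IsFinLocFreeOfRank d (Omega.conormal f)) :
    ∃ G : Geom f d, G.F ≫ G.b = KRR.projSpaceMap 1 f ∧ G.g0 ≫ G.b = sec 0 Y := by
  have := hf.1
  have hP : IsNoetherian (KRR.PY 1 Y) := Groth.Agent.Krr.H458.ConnPn.isNoetherian_PY 1 Y
  obtain ⟨M, b, hb⟩ := Groth.Agent.Flat2C.BlowExist.exists_isBlowUp (f ≫ sec 1 Y).ker
  obtain ⟨F, hF1, hF⟩ := exists_F hb
  obtain ⟨g₀, hg⟩ := exists_g₀ hb
  obtain ⟨h1, h2, h3⟩ := g₀_prop hb hg
  obtain ⟨h4, h5⟩ := isRegular_and_rank_F hf hC hb hF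
  obtain ⟨s, hs1, -, hs2, hs3, hs4⟩ := exists_s hf hC hb hF (IsPullback.of_hasPullback b (f ≫ sec 1 Y))
  refine ⟨⟨M, b, hb, F, h4, h5, g₀, ?_, isPullback_F_g₀ hb hF hg, s, hs1, hs3, hs4, hs2⟩, hF, hg⟩
  refine (SecRank.isRegular_and_rank_of_isEff g₀ ?_).1
  rw [h3]
  exact Groth.Agent.Krr.H458.Defo.isEff_comap_idl hb 0

end Groth.Agent.Krr.H450.MainGeom
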