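import Groth.Agent.Krr.H450.Assembly
import Groth.Agent.Krr.H450.ConormalIso
import Groth.Agent.Krr.H448.PullPush
import Groth.Agent.Krr.H495.Model
import Groth.Agent.Krr.H498.PushCl


/-!
# Adams–Riemann–Roch from the geometric pieces of the deformation to the normal bundle
-/

set_option autoImplicit false

open CategoryTheory CategoryTheory.Limits AlgebraicGeometry

universe v u

namespace Groth.Agent.Krr.H450.Pieces

open KRR Groth.Agent.Krr.H482.LamAlg Groth.Agent.Krr.H482.PullLambda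


/-- The class of the conormal module is compatible with fibre squares of the same codimension. -/
theorem pull_cl_conormal {X Y P M : Scheme.{u}} {F : P ⟶ M} {φ : Y ⟶ M} {f : X ⟶ Y} {ψ : X ⟶ P}
    (hsq : IsPullback f ψ φ F) [IsClosedImmersion F] [IsClosedImmersion f] {d : ℕ}
    (hcF : FlatMod.IsFinLocFreeOfRank d (Omega.conormal F))
    (hcf : FlatMod.IsFinLocFreeOfRank d (Omega.conormal f))
    {KX : Type*} [CommRing KX] {φX : SGA6.Kvb X →+ KX} {KP : Type*} [CommRing KP]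
    {φP : SGA6.Kvb P →+ KP} {gψ : KP →+ KX} (hgψ : IsPull ψ φP φX gψ) :
    gψ (φP (cl P (Omega.conormal F))) = φX (cl X (Omega.conormal f)) := by
  rw [hgψ _ (isFinLocFree_of_rank hcF)]
  obtain ⟨e⟩ := ConormalIso.nonempty_iso_conormal hsq (isFinLocFreeOfRank_pullback ψ hcF) hcf
  rw [cl_iso e (isFinLocFree_of_rank (isFinLocFreeOfRank_pullback ψ hcF))]

variable {X Y P M E : Scheme.{u}}
  {KX : Type v} [CommRing KX] [LambdaRing.LambdaOps KX] {PX : LambdaRing.PosStructure KX}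
  {φX : SGA6.Kvb X →+ KX}
  {KY : Type v} [CommRing KY] [LambdaRing.LambdaOps KY] {PY : LambdaRing.PosStructure KY}
  {φY : SGA6.Kvb Y →+ KY}
  {KP : Type v} [CommRing KP] [LambdaRing.LambdaOps KP] {PP : LambdaRing.PosStructure KP}
  {φP : SGA6.Kvb P →+ KP}
  {KM : Type v} [CommRing KM] [LambdaRing.LambdaOps KM] {PM : LambdaRing.PosStructure KM}
  {φM : SGA6.Kvb M →+ KM}
  {KE : Type v} [CommRing KE] [LambdaRing.LambdaOps KE] {PE : LambdaRing.PosStructure KE}
  {φE : SGA6.Kvb E →+ KE}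

/-- The formal part of the proof of the Adams–Riemann–Roch formula by deformation to the normal bundle, with the
conormal class allowed to vary. -/
theorem rr_of_deformation'
    (hKX : IsModel X KX PX φX) (hKY : IsModel Y KY PY φY) (hKP : IsModel P KP PP φP)
    (hKM : IsModel M KM PM φM) (hKE : IsModel E KE PE φE)
    {g0 : Y ⟶ M} {iE : E ⟶ M} {z0 zI : X ⟶ P} {r : P ⟶ X} (h0 : z0 ≫ r = 𝟙 X) (hI : zI ≫ r = 𝟙 X)
    (gf : KX →+ KY) (gF : KP →+ KM) (gs : KX →+ KE) (gg0 : KY →+ KM)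
    (qg0 : KM →+ KY) (hqg0 : IsPull g0 φM φY qg0) (qE : KM →+ KE) (hqE : IsPull iE φM φE qE)
    (q0 : KP →+ KX) (hq0 : IsPull z0 φP φX q0) (qI : KP →+ KX) (hqI : IsPull zI φP φX qI)
    (sq0 : ∀ p, qg0 (gF p) = gf (q0 p)) (sqE : ∀ p, qE (gF p) = gs (qI p))
    {j : ℕ} (hj : 1 ≤ j) (cP : KP) (c0 cI : KX) (hc0 : q0 cP = c0) (hcI : qI cP = cI)
    (hE1 : ∀ x, LambdaRing.adams PE j (gs x) = gs (bott PX j cI * LambdaRing.adams PX j x))
    (a b : KM) (ha : ∀ z, qE z = 0 → z * (1 - a) = 0)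
    (hb : ∀ p, LambdaRing.adams PM j (gF p) * (1 - b) = 0) (hb' : ∀ p, gF p * (1 - b) = 0)
    (hab : ∀ z, gg0 (qg0 z) = z * (1 - a * b)) (hinj : Function.Injective gg0) (x : KX) :
    LambdaRing.adams PY j (gf x) = gf (bott PX j c0 * LambdaRing.adams PX j x) := by
  obtain ⟨qr, hqr⟩ := exists_isPull (KY := KX) (KX := KP) r hKX.bijective φP
  have e0 : ∀ y, q0 (qr y) = y := by
    have h1 : IsPull (𝟙 X) φX φX (q0.comp qr) := isPull_congr h0 (isPull_comp hq0 hqr)
    have h2 : q0.comp qr = AddMonoidHom.id KX := isPull_unique hKX h1 (isPull_id fun E _ => rfl)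
    exact fun y => DFunLike.congr_fun h2 y
  have eI : ∀ y, qI (qr y) = y := by
    have h1 : IsPull (𝟙 X) φX φX (qI.comp qr) := isPull_congr hI (isPull_comp hqI hqr)
    have h2 : qI.comp qr = AddMonoidHom.id KX := isPull_unique hKX h1 (isPull_id fun E _ => rfl)
    exact fun y => DFunLike.congr_fun h2 y
  set w : KP := bott PP j cP * LambdaRing.adams PP j (qr x) with hw
  have w0 : q0 w = bott PX j c0 * LambdaRing.adams PX j x := by
    rw [hw, pull_mul hKX hKP hq0, Assembly.pull_bott hKX hKP hq0,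
      Assembly.pull_adams hKX hKP hq0 hj, hc0, e0]
  have wI : qI w = bott PX j cI * LambdaRing.adams PX j x := by
    rw [hw, pull_mul hKX hKP hqI, Assembly.pull_bott hKX hKP hqI,
      Assembly.pull_adams hKX hKP hqI hj, hcI, eI]
  set z : KM := LambdaRing.adams PM j (gF (qr x)) - gF w with hz
  have hzE : qE z = 0 := by
    rw [hz, map_sub, Assembly.pull_adams hKE hKM hqE hj, sqE, sqE, wI, eI, hE1, sub_self]
  have hz0 : qg0 z = LambdaRing.adams PY j (gf x) -
      gf (bott PX j c0 * LambdaRing.adams PX j x) := by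
    rw [hz, map_sub, Assembly.pull_adams hKY hKM hqg0 hj, sq0, sq0, w0, e0]
  have hzb : z * (1 - b) = 0 := by
    rw [hz, sub_mul, hb, hb', sub_zero]
  have hzab : z * (1 - a * b) = 0 := by
    have h1 : z * (1 - a * b) = z * (1 - a) + a * (z * (1 - b)) := by ring
    rw [h1, ha z hzE, hzb, mul_zero, add_zero]
  have h1 : gg0 (qg0 z) = 0 := (hab z).trans hzab
  have h2 : qg0 z = 0 := hinj (h1.trans (map_zero gg0).symm)
  rw [hz0] at h2
  exact sub_eq_zero.mp h2

/-- Adams–Riemann–Roch from the geometric pieces. -/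
theorem adams_push_of_pieces
    (hKX : IsModel X KX PX φX) (hKY : IsModel Y KY PY φY) (hKP : IsModel P KP PP φP)
    (hKM : IsModel M KM PM φM) (hKE : IsModel E KE PE φE)
    [IsNoetherian Y] [IsNoetherian M] [IsNoetherian E]
    (hMe : HasEnoughLocFree M) (hEe : HasEnoughLocFree E)
    {f : X ⟶ Y} (hf : Mor2.IsRegularClosedImmersion f) {d : ℕ}
    (hC : FlatMod.IsFinLocFreeOfRank d (Omega.conormal f))
    {F : P ⟶ M} (hF : Mor2.IsRegularClosedImmersion F)
    (hFc : FlatMod.IsFinLocFreeOfRank d (Omega.conormal F))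
    {g0 : Y ⟶ M} (hg0 : Mor2.IsRegularClosedImmersion g0)
    {z0 zI : X ⟶ P} {r : P ⟶ X} (h0 : z0 ≫ r = 𝟙 X) (hI : zI ≫ r = 𝟙 X)
    (sq0 : IsPullback f z0 g0 F)
    {iE : E ⟶ M} {s : X ⟶ E} (hs : Mor2.IsRegularClosedImmersion s)
    (hsc : FlatMod.IsFinLocFreeOfRank d (Omega.conormal s))
    (sqE : IsPullback s zI iE F) {j : ℕ} (hj : 1 ≤ j)
    (hE1 : ∀ gs : KX →+ KE, IsPushCl s φX φE gs → ∀ x, LambdaRing.adams PE j (gs x) =
      gs (bott PX j (φX (cl X (Omega.conormal s))) * LambdaRing.adams PX j x))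
    (hdiv : ∀ (gF : KP →+ KM), IsPushCl F φP φM gF → ∀ (gg0 : KY →+ KM), IsPushCl g0 φY φM gg0 →
      ∀ (qg0 : KM →+ KY), IsPull g0 φM φY qg0 → ∀ (qE : KM →+ KE), IsPull iE φM φE qE →
      ∃ a b : KM, (∀ z, qE z = 0 → z * (1 - a) = 0) ∧
        (∀ p, LambdaRing.adams PM j (gF p) * (1 - b) = 0) ∧ (∀ p, gF p * (1 - b) = 0) ∧
        (∀ z, gg0 (qg0 z) = z * (1 - a * b)))
    (hinj : ∀ (gg0 : KY →+ KM), IsPushCl g0 φY φM gg0 → Function.Injective gg0)
    (h : KX →+ KY) (hh : IsPushCl f φX φY h) (x : KX) :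
    LambdaRing.adams PY j (h x) =
      h (bott PX j (φX (cl X (Omega.conormal f))) * LambdaRing.adams PX j x) := by
  have := hf.1
  have := hF.1
  have := hs.1
  have := hg0.1
  obtain ⟨gF, hgF, -⟩ := Groth.Agent.Krr.H498.PushCl.existsUnique_isPushCl F hMe φP φM
    (Groth.Agent.Krr.H498.PushCl.goodPush_of_regular F hMe hF) hKP.bijective
  obtain ⟨gs, hgs, -⟩ := Groth.Agent.Krr.H498.PushCl.existsUnique_isPushCl s hEe φX φE
    (Groth.Agent.Krr.H498.PushCl.goodPush_of_regular s hEe hs) hKX.bijective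
  obtain ⟨gg0, hgg0, -⟩ := Groth.Agent.Krr.H498.PushCl.existsUnique_isPushCl g0 hMe φY φM
    (Groth.Agent.Krr.H498.PushCl.goodPush_of_regular g0 hMe hg0) hKY.bijective
  obtain ⟨qg0, hqg0⟩ := exists_isPull g0 hKM.bijective φY
  obtain ⟨qE, hqE⟩ := exists_isPull iE hKM.bijective φE
  obtain ⟨q0, hq0⟩ := exists_isPull z0 hKP.bijective φX
  obtain ⟨qI, hqI⟩ := exists_isPull zI hKP.bijective φX
  obtain ⟨a, b, ha, hb, hb', hab⟩ := hdiv gF hgF gg0 hgg0 qg0 hqg0 qE hqE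
  have hc0 := pull_cl_conormal sq0 hFc hC hq0
  have hcI := pull_cl_conormal sqE hFc hsc hqI
  exact rr_of_deformation' hKX hKY hKP hKM hKE h0 hI h gF gs gg0 qg0 hqg0 qE hqE q0 hq0 qI hqI
    (Groth.Agent.Krr.H448.PullPush.pull_push sq0 hF hf d hFc hC hMe hKP.bijective.surjective qg0 hqg0
      q0 hq0 gF hgF h hh)
    (Groth.Agent.Krr.H448.PullPush.pull_push sqE hF hs d hFc hsc hMe hKP.bijective.surjective qE hqE
      qI hqI gF hgF gs hgs) hj _ _ _ hc0 hcI (hE1 gs hgs) a b ha hb hb' hab (hinj gg0 hgg0) x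

end Groth.Agent.Krr.H450.Pieces
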